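import Mathlib
import Cfsg.Prelude.Def_LieChev
import Cfsg.Prelude.Def_E6

/-!
# S3650: definitions (helper163)

* `L5` : the group `E₆(5)`; `Q5` : the group of the cubic form on the 27-dimensional space over `ZMod 5`;
* `Fixes L t p` : on every nonzero finite elementary abelian `t`-group on which `L` acts some element of order `p` of `L`
  has a fixed point `≠ 0`;
* `NA L a b` : no element of order `a * b`;
* `SameGraph G H` : `G` and `H` have the same prime graph.
-/

set_option autoImplicit false

namespace Cfsg.Agent.H163.E65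

universe u v

instance fact5 : Fact (Nat.Prime 5) := ⟨by norm_num⟩

/-- the group `E₆(5)` -/
abbrev L5 : Type := ↥(Cfsg.Lie.chevE6.group (ZMod 5))

/-- the isometry group of the cubic form on the 27-dimensional space over the field with 5 elements -/
abbrev Q5 : Type := ↥(Cfsg.Lie.E6univ (ZMod 5))

/-- on every nonzero finite elementary abelian `t`-group on which `L` acts some element of order `p` of `L` has a fixed
point `≠ 0` -/
def Fixes (L : Type u) [Group L] (t p : ℕ) : Prop :=
  ∀ (V : Type v) [AddCommGroup V] [Nontrivial V] [Finite V] (ρ : L →* AddMonoid.End V), (∀ v : V, t • v = 0) →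
    ∃ x : L, orderOf x = p ∧ ∃ v : V, v ≠ 0 ∧ ρ x v = v

/-- no element of order `a * b` -/
def NA (L : Type u) [Group L] (a b : ℕ) : Prop := ∀ g : L, orderOf g ≠ a * b

/-- the same prime graph -/
def SameGraph (G : Type u) (H : Type v) [Group G] [Group H] : Prop :=
  (∀ r : ℕ, r.Prime → (r ∣ Nat.card H ↔ r ∣ Nat.card G)) ∧
    ∀ r s : ℕ, r.Prime → s.Prime → r ≠ s → ((∃ x : H, orderOf x = r * s) ↔ (∃ y : G, orderOf y = r * s))

/-- the prime divisors of `|E₆(5)|` -/
def pr : List ℕ := [2, 3, 5, 7, 11, 13, 19, 31, 71, 313, 601, 829]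

end Cfsg.Agent.H163.E65
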