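import Cfsg.Agent.H163.E65.QL
import Cfsg.Agent.H421.Act
import Cfsg.Agent.H631.OuterE65
import Cfsg.Agent.H184.GraphE6.Elt
import Cfsg.Agent.H122.E65.Singer
import Cfsg.Agent.H174.E65.Three
import Cfsg.Agent.H412.E65Mod

/-!
# S3650: steps of the assembly (helper163)

* `top_of_outer`, `bot_of_fixes`, `equiv_of_bot` : the abstract steps;
* `fixes_829` : characteristics 2 and 3, from an embedding of `SL₃(125)`;
* `graph_L5`.
-/

set_option autoImplicit false

namespace Cfsg.Agent.H163.E65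

universe u u₁ u₂ v w

open Cfsg Cfsg.Lie
open scoped MatrixGroups

theorem Fixes.of_injective {H : Type u₁} [Group H] {A : Type u₂} [Group A] (L : Subgroup A) (f : H →* L) (hf : Function.Injective f)
    {t p : ℕ} (h : Fixes.{u₁, v} H t p) : Fixes.{u₂, v} L t p := by
  intro V _ _ _ ρ hV
  obtain ⟨x, hx, w, hw, e⟩ := h V (ρ.comp f) hV
  exact ⟨f x, by rw [orderOf_injective f hf, hx], w, hw, e⟩

theorem transport_graph {A B : Type*} [Group A] [Group B] (e : A ≃* B) {n : ℕ}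
    (h : ∃ (x : A) (γ : MulAut A), orderOf x = n ∧ orderOf γ = 2 ∧ γ x = x) :
    ∃ (x : B) (γ : MulAut B), orderOf x = n ∧ orderOf γ = 2 ∧ γ x = x := by
  obtain ⟨x, γ, hx, hγ, hxγ⟩ := h
  refine ⟨e x, MulAut.congr e γ, ?_, ?_, ?_⟩
  · rw [MulEquiv.orderOf_eq, hx]
  · rw [MulEquiv.orderOf_eq, hγ]
  · show e (γ (e.symm (e x))) = e x
    rw [MulEquiv.symm_apply_apply, hxγ]

theorem transport_graph' {A B : Type*} [Group A] [Group B] (H : Subgroup A) (K : Subgroup B) (e : H ≃* K) {n : ℕ}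
    (h : ∃ (x : H) (γ : MulAut H), orderOf x = n ∧ orderOf γ = 2 ∧ γ x = x) :
    ∃ (x : K) (γ : MulAut K), orderOf x = n ∧ orderOf γ = 2 ∧ γ x = x := transport_graph e h

/-- the assembly, abstractly: `S = ⊤` -/
theorem top_of_outer {G : Type u} [Group G] [Finite G] {A : Type v} [Group A] (L : Subgroup A) {K : Subgroup G}
    [K.Normal] {S : Subgroup (G ⧸ K)} [S.Normal] (e : S ≃* L) (hC : Subgroup.centralizer (S : Set (G ⧸ K)) = ⊥)
    (outer : ∀ {X : Type u} [Group X] [Finite X] (S : Subgroup X) [S.Normal], (S ≃* L) →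
      Subgroup.centralizer (S : Set X) = ⊥ → S ≠ ⊤ → ∃ x : X, orderOf x = 2 * 601)
    (h2 : ∀ y : G, orderOf y ≠ 2 * 601) : S = ⊤ := by
  by_contra hne
  obtain ⟨x, hx⟩ := outer S e hC hne
  obtain ⟨g, hg1, -⟩ := Cfsg.Agent.H421.Act.orderOf_lift (QuotientGroup.mk' K) (QuotientGroup.mk'_surjective K) x
  exact h2 g (hg1.trans hx)

/-- the assembly, abstractly: `K = ⊥` -/
theorem bot_of_fixes {G : Type u} [Group G] [Finite G] {A : Type v} [Group A] (L : Subgroup A) {K : Subgroup G}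
    [K.Normal]
    (hK : Group.IsSolvable K) (q : G ⧸ K ≃* L)
    (hf : ∀ t : ℕ, t.Prime → t ∣ Nat.card K → ∃ p : ℕ, p.Prime ∧ p ≠ t ∧ (∀ y : G, orderOf y ≠ p * t) ∧
      Fixes.{v, u} L t p) : K = ⊥ := by
  by_contra hne
  obtain ⟨t, V, _, _, _, ρ, ht, htK, hV, hfix⟩ := Cfsg.Agent.H421.Act.exists_top K hne hK
  obtain ⟨p, hp, hpt, hno, hfx⟩ := hf t ht htK
  obtain ⟨x, hx, w, hw, e⟩ := hfx V (ρ.comp q.symm.toMonoidHom) hV
  exact hw (hfix p hp hpt hno (q.symm x) (by rw [MulEquiv.orderOf_eq, hx]) w e)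

theorem equiv_of_bot {G : Type u} [Group G] {A : Type v} [Group A] (L : Subgroup A) {K : Subgroup G} [K.Normal]
    (hK : K = ⊥) (q : G ⧸ K ≃* L) : Nonempty (G ≃* L) := by
  subst hK
  exact ⟨(QuotientGroup.quotientBot (G := G)).symm.trans q⟩

theorem Fixes.of_sub {H : Type u₁} [Group H] {A B : Type*} [Group A] [Group B] (Q : Subgroup A) (L : Subgroup B)
    (f : H →* Q) (hf : Function.Injective f) (e : Q ≃* L) {t p : ℕ} (h : Fixes.{u₁, v} H t p) : Fixes.{_, v} L t p :=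
  h.of_injective L (e.toMonoidHom.comp f) (e.injective.comp hf)

theorem fixes_829 (sl3 : ∃ f : SL(3, GaloisField 5 3) →* Q5, Function.Injective f) {t : ℕ} (ht : t = 2 ∨ t = 3) :
    Fixes.{0, v} L5 t 829 := by
  obtain ⟨f, hf⟩ := sl3
  obtain ⟨e⟩ := Q5_equiv
  have hft : Fintype (GaloisField 5 3) := Fintype.ofFinite _
  have hK : Fintype.card (GaloisField 5 3) = 125 := by
    rw [← Nat.card_eq_fintype_card, GaloisField.card 5 3 (by norm_num)]
    norm_num
  obtain ⟨T, hT⟩ := Cfsg.Agent.H122.E65.exists_ti hK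
  have h1 : Fixes.{0, v} SL(3, GaloisField 5 3) t 829 :=
    Cfsg.Agent.H412.E65Mod.modular hT (Cfsg.Agent.H174.E65.dichotomy hT (Cfsg.Agent.H174.E65.three hK)) ht
  exact h1.of_sub _ _ f hf e

theorem graph_L5 : ∃ (x : L5) (γ : MulAut L5), orderOf x = 601 ∧ orderOf γ = 2 ∧ γ x = x := by
  obtain ⟨e⟩ := Q5_equiv
  exact transport_graph' _ _ e Cfsg.Agent.H184.GraphE6.exists_graph'

/-- no outer automorphisms -/
theorem top_of_L5 {G : Type u} [Group G] [Finite G] {K : Subgroup G} [K.Normal]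
    {S : Subgroup (G ⧸ K)} [S.Normal] (e : S ≃* L5) (hC : Subgroup.centralizer (S : Set (G ⧸ K)) = ⊥)
    (h2 : ∀ y : G, orderOf y ≠ 2 * 601) : S = ⊤ := by
  refine top_of_outer _ e hC ?_ h2
  intro X _ _ S' _ e' hC' hne
  exact Cfsg.Agent.H631.OuterE65.outer graph_L5 S' e' hC' hne

end Cfsg.Agent.H163.E65
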